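import Groth.Agent.OmegaExistLib.Basic
import Groth.Agent.ConormalLib.Seq
import Groth.Agent.ConormalLib.Trans
import Groth.Agent.OmegaUnivLib.Local
import Groth.Agent.GrpOmega.Basic
import Groth.Agent.S9386
import Groth.Agent.S9370
import Groth.Agent.S8656
import Groth.Agent.S8905
import Groth.Agent.EtAlgEasy.OmegaSmooth2
import Groth.Agent.SmoothLiftLib.Nbhd
import Groth.Agent.RegLib.KData
import Groth.Agent.FundLocIsoLib.Adjunction
import Groth.Agent.PullbackMod.LimFree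
import Groth.Agent.K0ResLib.Basic

/-!
# Comparing two factorisations through smooth morphisms
-/

set_option autoImplicit false
set_option backward.isDefEq.respectTransparency false
set_option backward.defeqAttrib.useBackward true
set_option linter.style.haveILetI false
set_option maxHeartbeats 1000000

universe u

open CategoryTheory CategoryTheory.Limits AlgebraicGeometry TopologicalSpace Opposite

namespace Groth.Agent.FactorSeqLib

noncomputable section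

theorem pullSect_comp {A B C : Scheme.{u}} (f : A ⟶ B) (g : B ⟶ C) (M : C.Modules) (U : C.Opens) (m : Γ(M, U)) :
    ((Scheme.Modules.pullbackComp f g).hom.app M).app (f ⁻¹ᵁ (g ⁻¹ᵁ U))
        (OmegaSh.pullSect f ((Scheme.Modules.pullback g).obj M) (g ⁻¹ᵁ U) (OmegaSh.pullSect g M U m)) =
      OmegaSh.pullSect (f ≫ g) M U m := by
  have h := unit_conjugateEquiv ((Scheme.Modules.pullbackPushforwardAdjunction g).comp
    (Scheme.Modules.pullbackPushforwardAdjunction f)) (Scheme.Modules.pullbackPushforwardAdjunction (f ≫ g))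
    (Scheme.Modules.pullbackComp f g).inv M
  rw [Scheme.Modules.conjugateEquiv_pullbackComp_inv] at h
  have h1 : ((Scheme.Modules.pullbackComp f g).inv.app M).app ((f ≫ g) ⁻¹ᵁ U) (OmegaSh.pullSect (f ≫ g) M U m) =
      OmegaSh.pullSect f ((Scheme.Modules.pullback g).obj M) (g ⁻¹ᵁ U) (OmegaSh.pullSect g M U m) :=
    congr($(h.symm).app U m)
  rw [← h1]
  exact congr($((Scheme.Modules.pullbackComp f g).inv_hom_id_app M).app ((f ≫ g) ⁻¹ᵁ U) (OmegaSh.pullSect (f ≫ g) M U m))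

theorem pullSect_map {A B : Scheme.{u}} (f : A ⟶ B) {M N : B.Modules} (α : M ⟶ N) (U : B.Opens) (m : Γ(M, U)) :
    ((Scheme.Modules.pullback f).map α).app (f ⁻¹ᵁ U) (OmegaSh.pullSect f M U m) =
      OmegaSh.pullSect f N U (α.app U m) :=
  (congr($((Scheme.Modules.pullbackPushforwardAdjunction f).unit.naturality α).app U m)).symm

theorem restrictIso_app {A B : Scheme.{u}} (f : A ⟶ B) [IsOpenImmersion f] (M : B.Modules) (U : B.Opens) (m : Γ(M, U)) :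
    ((Scheme.Modules.restrictFunctorIsoPullback f).hom.app M).app (f ⁻¹ᵁ U)
        (M.presheaf.map (homOfLE (f.image_preimage_le U)).op m) = OmegaSh.pullSect f M U m :=
  congr($(Adjunction.unit_leftAdjointUniq_hom_app (Scheme.Modules.restrictAdjunction f)
    (Scheme.Modules.pullbackPushforwardAdjunction f) M).app U m)

theorem chain {A B C D : Scheme.{u}} (j : A ⟶ B) (ι : B ⟶ C) [IsOpenImmersion ι] (q : C ⟶ D) (N : C.Modules)
    (M : D.Modules) (β : N ⟶ (Scheme.Modules.pullback q).obj M) (U : D.Opens) (n : Γ(N, q ⁻¹ᵁ U)) (m : Γ(M, U))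
    (hn : β.app (q ⁻¹ᵁ U) n = OmegaSh.pullSect q M U m) :
    ((Scheme.Modules.pullback j).mapIso ((Scheme.Modules.restrictFunctorIsoPullback ι).app N) ≪≫
        (Scheme.Modules.pullbackComp j ι).app N).hom.app (j ⁻¹ᵁ (ι ⁻¹ᵁ (q ⁻¹ᵁ U)))
        (OmegaSh.pullSect j (N.restrict ι) (ι ⁻¹ᵁ (q ⁻¹ᵁ U))
          (N.presheaf.map (homOfLE (ι.image_preimage_le (q ⁻¹ᵁ U))).op n)) |> fun z =>
      ((Scheme.Modules.pullbackComp (j ≫ ι) q).hom.app M).app ((j ≫ ι) ⁻¹ᵁ (q ⁻¹ᵁ U))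
          (((Scheme.Modules.pullback (j ≫ ι)).map β).app ((j ≫ ι) ⁻¹ᵁ (q ⁻¹ᵁ U)) z) =
        OmegaSh.pullSect ((j ≫ ι) ≫ q) M U m := by
  have a1 := (pullSect_map j ((Scheme.Modules.restrictFunctorIsoPullback ι).hom.app N) (ι ⁻¹ᵁ (q ⁻¹ᵁ U))
    (N.presheaf.map (homOfLE (ι.image_preimage_le (q ⁻¹ᵁ U))).op n)).trans
    (congrArg _ (restrictIso_app ι N (q ⁻¹ᵁ U) n))
  have a2 := (congrArg (((Scheme.Modules.pullbackComp j ι).hom.app N).app (j ⁻¹ᵁ (ι ⁻¹ᵁ (q ⁻¹ᵁ U)))) a1).trans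
    (pullSect_comp j ι N (q ⁻¹ᵁ U) n)
  have a3 := (congrArg (((Scheme.Modules.pullback (j ≫ ι)).map β).app ((j ≫ ι) ⁻¹ᵁ (q ⁻¹ᵁ U))) a2).trans
    ((pullSect_map (j ≫ ι) β (q ⁻¹ᵁ U) n).trans (congrArg _ hn))
  exact (congrArg (((Scheme.Modules.pullbackComp (j ≫ ι) q).hom.app M).app ((j ≫ ι) ⁻¹ᵁ (q ⁻¹ᵁ U))) a3).trans
    (pullSect_comp (j ≫ ι) q M U m)

theorem isIso_of_pullback {V V' Y W : Scheme.{u}} {g : V ⟶ Y} {g' : V' ⟶ Y} {p : W ⟶ V} {q : W ⟶ V'}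
    (hsq : IsPullback q p g' g) {Ω' : V'.Modules} {d' : OmegaSh.Der g' Ω'} (hd' : OmegaSh.IsUniversal d')
    {ΩW : W.Modules} {dW : OmegaSh.Der p ΩW} (hdW : OmegaSh.IsUniversal dW) :
    ∃ e : (Scheme.Modules.pullback q).obj Ω' ≅ ΩW, OmegaSh.IsDiffCompat q d' dW e.hom := by
  obtain ⟨c, hc, -⟩ := Groth.Agent.S9370.result g' p q g hsq.w.symm Ω' d' hd' ΩW dW hdW
  haveI := Groth.Agent.S9386.result g' g q p hsq Ω' d' hd' ΩW dW hdW c hc
  exact ⟨asIso c, hc⟩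

/-- The conormal sequence of a graph immersion. -/
theorem exists_seq {X Y V V' W : Scheme.{u}} {g : V ⟶ Y} {g' : V' ⟶ Y} [Smooth g'] {p : W ⟶ V} {q : W ⟶ V'}
    (hsq : IsPullback q p g' g) (W₀ : W.Opens) (j : X ⟶ W₀.toScheme) [IsClosedImmersion j]
    (i : X ⟶ V) [IsClosedImmersion i] (i' : X ⟶ V') (hp : j ≫ W₀.ι ≫ p = i) (hq : j ≫ W₀.ι ≫ q = i')
    {Ω' : V'.Modules} {d' : OmegaSh.Der g' Ω'} (hd' : OmegaSh.IsUniversal d') :
    ∃ (a : Omega.conormal i ⟶ Omega.conormal j) (b : Omega.conormal j ⟶ (Scheme.Modules.pullback i').obj Ω')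
      (w : a ≫ b = 0), (ShortComplex.mk a b w).ShortExact ∧
      (∀ (U : V.Opens) (s : Γ(ClSub.idealMod i.ker, U)) (e : j ⁻¹ᵁ ((W₀.ι ≫ p) ⁻¹ᵁ U) = i ⁻¹ᵁ U),
        ∃ m, OmegaSh.idealSect j.ker ((W₀.ι ≫ p) ⁻¹ᵁ U) m = (W₀.ι ≫ p).app U (OmegaSh.idealSect i.ker U s) ∧
          a.app (i ⁻¹ᵁ U) (OmegaSh.conormalSect i U s) =
            (Omega.conormal j).presheaf.map (eqToHom e.symm).op (OmegaSh.conormalSect j _ m)) ∧
      (∀ (U : V'.Opens) (x : Γ(V', U)) (m : Γ(ClSub.idealMod j.ker, (W₀.ι ≫ q) ⁻¹ᵁ U))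
        (e : j ⁻¹ᵁ ((W₀.ι ≫ q) ⁻¹ᵁ U) = i' ⁻¹ᵁ U),
        OmegaSh.idealSect j.ker ((W₀.ι ≫ q) ⁻¹ᵁ U) m = (W₀.ι ≫ q).app U x →
          b.app (j ⁻¹ᵁ ((W₀.ι ≫ q) ⁻¹ᵁ U)) (OmegaSh.conormalSect j _ m) =
            ((Scheme.Modules.pullback i').obj Ω').presheaf.map (eqToHom e).op (OmegaSh.pullSect i' Ω' U (d'.app U x))) := by
  subst hp hq
  haveI : Smooth p := MorphismProperty.of_isPullback (P := @Smooth) hsq inferInstance
  obtain ⟨ΩW, dW, hdW⟩ := OmegaExistLib.exists_universal p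
  have w₀ : (W₀.ι ≫ p) ≫ 𝟙 V = W₀.ι ≫ p := Category.comp_id _
  let d₀ := OmegaUnivLib.restrictDer W₀.ι (𝟙 V) w₀ dW
  have hd₀ : OmegaSh.IsUniversal d₀ := OmegaUnivLib.isUniversal_restrictDer W₀.ι (𝟙 V) w₀ hdW
  obtain ⟨ψ, hψ, -⟩ := ConormalLib.existsUnique_conormalMap j (j ≫ W₀.ι ≫ p) (W₀.ι ≫ p) (𝟙 X)
    (by rw [Category.id_comp])
  obtain ⟨φ, hφ⟩ := GrpOmega.exists_conormalDiff j d₀
  obtain ⟨w, hex, hepi⟩ := ConormalLib.exact_and_epi hd₀ hψ hφ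
  haveI := ConormalLib.mono_of_smooth hψ
  have hS : (ShortComplex.mk ψ φ w).ShortExact := { exact := hex, mono_f := inferInstance, epi_g := hepi }
  obtain ⟨eW, heW⟩ := isIso_of_pullback hsq hd' hdW
  let e₃ : (Scheme.Modules.pullback j).obj (ΩW.restrict W₀.ι) ≅ (Scheme.Modules.pullback (j ≫ W₀.ι ≫ q)).obj Ω' :=
    (Scheme.Modules.pullback j).mapIso ((Scheme.Modules.restrictFunctorIsoPullback W₀.ι).app ΩW) ≪≫
      (Scheme.Modules.pullbackComp j W₀.ι).app ΩW ≪≫ (Scheme.Modules.pullback (j ≫ W₀.ι)).mapIso eW.symm ≪≫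
      (Scheme.Modules.pullbackComp (j ≫ W₀.ι) q).app Ω'
  let e₁ : (Scheme.Modules.pullback (𝟙 X)).obj (Omega.conormal (j ≫ W₀.ι ≫ p)) ≅ Omega.conormal (j ≫ W₀.ι ≫ p) :=
    (Scheme.Modules.pullbackId X).app _
  have w' : (e₁.inv ≫ ψ) ≫ φ ≫ e₃.hom = 0 := by
    rw [Category.assoc, reassoc_of% w, zero_comp, comp_zero]
  have hS' : (ShortComplex.mk (e₁.inv ≫ ψ) (φ ≫ e₃.hom) w').ShortExact := by
    refine ShortComplex.shortExact_of_iso ?_ hS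
    exact ShortComplex.isoMk e₁ (Iso.refl _) e₃ (by simp) (by simp)
  refine ⟨e₁.inv ≫ ψ, φ ≫ e₃.hom, w', hS', fun U s e => ?_,
    fun U x m e hm => ?_⟩
  · obtain ⟨θ, hθ⟩ := ConormalLib.exists_idealMap j (j ≫ W₀.ι ≫ p) (W₀.ι ≫ p) (𝟙 X) hψ.1
    refine ⟨θ.app U s, hθ U s, ?_⟩
    show ψ.app _ (((Scheme.Modules.pullbackId X).inv.app _).app _ (OmegaSh.conormalSect _ U s)) = _
    rw [ConormalLib.pullbackId_inv_app]
    have h := hψ.2 U s (θ.app U s) (hθ U s) _ le_rfl le_rfl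
    refine Eq.trans ?_ (h.trans ?_)
    · exact (congr($((Omega.conormal j).presheaf.map_id _) _)).symm
    · rfl
  · show e₃.hom.app _ (φ.app _ (OmegaSh.conormalSect j _ m)) = _
    rw [hφ _ m, hm]
    have hd0 : d₀.app ((W₀.ι ≫ q) ⁻¹ᵁ U) ((W₀.ι ≫ q).app U x) =
        ΩW.presheaf.map (homOfLE (W₀.ι.image_preimage_le (q ⁻¹ᵁ U))).op (dW.app (q ⁻¹ᵁ U) (q.app U x)) := by
      show dW.app _ ((W₀.ι.appIso (W₀.ι ⁻¹ᵁ (q ⁻¹ᵁ U))).inv (W₀.ι.app (q ⁻¹ᵁ U) (q.app U x))) = _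
      rw [OmegaUnivLib.res_appIso_app, OmegaUnivLib.app_res]
    rw [hd0]
    refine (chain j W₀.ι q ΩW Ω' eW.inv U (dW.app (q ⁻¹ᵁ U) (q.app U x)) (d'.app U x) ?_).trans ?_
    · rw [← heW U x]
      exact congr($(eW.hom_inv_id).app (q ⁻¹ᵁ U) (OmegaSh.pullSect q Ω' U (d'.app U x)))
    · exact (congr($(((Scheme.Modules.pullback (j ≫ W₀.ι ≫ q)).obj Ω').presheaf.map_id _) _)).symm

theorem isFinLocFree_conormal {X Y V : Scheme.{u}} {f : X ⟶ Y} (hf : ∀ x : X, Synt.IsKoszulAt f x)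
    (g : V ⟶ Y) [Smooth g] (i : X ⟶ V) [IsClosedImmersion i] (hi : i ≫ g = f) :
    FlatMod.IsFinLocFree (Omega.conormal i) := by
  have h1 : RegImm.IsRegularImmersion RegImm.Kind.h1 i :=
    (Groth.Agent.S8905.result i).2.1 (Groth.Agent.S8656.result f hf g i hi)
  intro z
  obtain ⟨U, T, hzU, -, n, r, hr, hker⟩ := ConormalLib.exists_tower_h1 i (𝟙 V) h1 z (V := ⊤) trivial
  exact ⟨_, n, hzU, T.nonempty_free hr hker⟩

theorem isFinLocFree_pull_omega {X Y V : Scheme.{u}} (g : V ⟶ Y) [Smooth g] (i : X ⟶ V)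
    {Ω : V.Modules} {d : OmegaSh.Der g Ω} (hd : OmegaSh.IsUniversal d) :
    FlatMod.IsFinLocFree ((Scheme.Modules.pullback i).obj Ω) :=
  PullbackMod.isFinLocFree_pullback i _
    (EtAlgEasy.OmegaSmooth.isFinLocFree_omega g (SmoothLiftLib.isFormallySmoothHom_of_smooth g) hd)

/-- Morphisms out of a conormal sheaf are determined by classes of local sections. -/
theorem conormal_hom_ext {Z X : Scheme.{u}} (i : Z ⟶ X) {M : Z.Modules} {α β : Omega.conormal i ⟶ M}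
    (h : ∀ (U : X.Opens) (s : Γ(ClSub.idealMod i.ker, U)),
      α.app (i ⁻¹ᵁ U) (OmegaSh.conormalSect i U s) = β.app (i ⁻¹ᵁ U) (OmegaSh.conormalSect i U s)) : α = β := by
  refine ((Scheme.Modules.pullbackPushforwardAdjunction i).homEquiv _ _).injective ?_
  refine Scheme.Modules.hom_ext _ _ fun U => AddCommGrpCat.hom_ext (AddMonoidHom.ext fun s => ?_)
  rw [Adjunction.homEquiv_unit, Adjunction.homEquiv_unit]
  exact h U s

theorem comp_eq {X V : Scheme.{u}} {W : Scheme.{u}} {W₀ : W.Opens} {j : X ⟶ W₀.toScheme} {p : W ⟶ V}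
    {Y : Scheme.{u}} {g : V ⟶ Y} {Ω : V.Modules} {d : OmegaSh.Der g Ω}
    {a : Omega.conormal (j ≫ W₀.ι ≫ p) ⟶ Omega.conormal j}
    {b : Omega.conormal j ⟶ (Scheme.Modules.pullback (j ≫ W₀.ι ≫ p)).obj Ω}
    (ha : ∀ (U : V.Opens) (s : Γ(ClSub.idealMod (j ≫ W₀.ι ≫ p).ker, U))
        (e : j ⁻¹ᵁ ((W₀.ι ≫ p) ⁻¹ᵁ U) = (j ≫ W₀.ι ≫ p) ⁻¹ᵁ U),
        ∃ m, OmegaSh.idealSect j.ker ((W₀.ι ≫ p) ⁻¹ᵁ U) m =
            (W₀.ι ≫ p).app U (OmegaSh.idealSect (j ≫ W₀.ι ≫ p).ker U s) ∧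
          a.app ((j ≫ W₀.ι ≫ p) ⁻¹ᵁ U) (OmegaSh.conormalSect (j ≫ W₀.ι ≫ p) U s) =
            (Omega.conormal j).presheaf.map (eqToHom e.symm).op (OmegaSh.conormalSect j _ m))
    (hb : ∀ (U : V.Opens) (x : Γ(V, U)) (m : Γ(ClSub.idealMod j.ker, (W₀.ι ≫ p) ⁻¹ᵁ U))
        (e : j ⁻¹ᵁ ((W₀.ι ≫ p) ⁻¹ᵁ U) = (j ≫ W₀.ι ≫ p) ⁻¹ᵁ U),
        OmegaSh.idealSect j.ker ((W₀.ι ≫ p) ⁻¹ᵁ U) m = (W₀.ι ≫ p).app U x →
          b.app (j ⁻¹ᵁ ((W₀.ι ≫ p) ⁻¹ᵁ U)) (OmegaSh.conormalSect j _ m) =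
            ((Scheme.Modules.pullback (j ≫ W₀.ι ≫ p)).obj Ω).presheaf.map (eqToHom e).op
              (OmegaSh.pullSect (j ≫ W₀.ι ≫ p) Ω U (d.app U x)))
    (φ : Omega.conormal (j ≫ W₀.ι ≫ p) ⟶ (Scheme.Modules.pullback (j ≫ W₀.ι ≫ p)).obj Ω)
    (hφ : OmegaSh.IsConormalDiff (j ≫ W₀.ι ≫ p) d φ) : a ≫ b = φ := by
  refine conormal_hom_ext _ fun U s => ?_
  obtain ⟨m, hm, he⟩ := ha U s rfl
  show b.app _ (a.app _ _) = _
  rw [he, hφ U s]
  erw [congr($((Omega.conormal j).presheaf.map_id _) (OmegaSh.conormalSect j ((W₀.ι ≫ p) ⁻¹ᵁ U) m)), hb U _ m rfl hm]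
  exact congr($(((Scheme.Modules.pullback (j ≫ W₀.ι ≫ p)).obj Ω).presheaf.map_id _) _)

/-- Two factorisations have conormal sheaves and differentials in short exact sequences with a common
middle term, compatibly with the conormal differentials. -/
theorem exists_two_seq {X Y V V' : Scheme.{u}} {f : X ⟶ Y} {g : V ⟶ Y} [Smooth g] {g' : V' ⟶ Y} [Smooth g']
    {i : X ⟶ V} [IsClosedImmersion i] {i' : X ⟶ V'} [IsClosedImmersion i'] (hi : i ≫ g = f) (hi' : i' ≫ g' = f)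
    {Ω : V.Modules} {d : OmegaSh.Der g Ω} (hd : OmegaSh.IsUniversal d)
    {Ω' : V'.Modules} {d' : OmegaSh.Der g' Ω'} (hd' : OmegaSh.IsUniversal d') :
    ∃ (M : X.Modules) (a : Omega.conormal i ⟶ M) (b : M ⟶ (Scheme.Modules.pullback i').obj Ω') (w : a ≫ b = 0)
      (a' : Omega.conormal i' ⟶ M) (b' : M ⟶ (Scheme.Modules.pullback i).obj Ω) (w' : a' ≫ b' = 0),
      (ShortComplex.mk a b w).ShortExact ∧ (ShortComplex.mk a' b' w').ShortExact ∧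
      (∀ φ, OmegaSh.IsConormalDiff i d φ → a ≫ b' = φ) ∧ (∀ φ, OmegaSh.IsConormalDiff i' d' φ → a' ≫ b = φ) := by
  let p := Limits.pullback.fst g g'
  let q := Limits.pullback.snd g g'
  have hsq : IsPullback p q g g' := IsPullback.of_hasPullback g g'
  let j : X ⟶ Limits.pullback g g' := Limits.pullback.lift i i' (hi.trans hi'.symm)
  haveI : IsImmersion (j ≫ p) := by rw [Limits.pullback.lift_fst]; infer_instance
  haveI : IsImmersion j := IsImmersion.of_comp j p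
  let Wc := j.coborderRange
  let jc : X ⟶ Wc.toScheme := j.liftCoborder
  have hj : jc ≫ Wc.ι = j := j.liftCoborder_ι
  obtain ⟨W₀, j₀, _, hp, hq⟩ : ∃ (W₀ : (Limits.pullback g g').Opens) (j₀ : X ⟶ W₀.toScheme) (_ : IsClosedImmersion j₀),
      i = j₀ ≫ W₀.ι ≫ p ∧ i' = j₀ ≫ W₀.ι ≫ q :=
    ⟨Wc, jc, inferInstanceAs (IsClosedImmersion j.liftCoborder), by rw [reassoc_of% hj, Limits.pullback.lift_fst],
      by rw [reassoc_of% hj, Limits.pullback.lift_snd]⟩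
  subst hp hq
  obtain ⟨a, b, w, hS, ha, hb⟩ := exists_seq hsq.flip W₀ j₀ _ _ rfl rfl hd'
  obtain ⟨a', b', w', hS', ha', hb'⟩ := exists_seq hsq W₀ j₀ _ _ rfl rfl hd
  exact ⟨_, a, b, w, a', b', w', hS, hS', comp_eq ha hb', comp_eq ha' hb⟩

theorem freeAt_iso {X : Scheme.{u}} {M N : X.Modules} (e : M ≅ N) {n : ℕ} {x : X}
    (h : PullbackMod.FreeAt n M x) : PullbackMod.FreeAt n N x := by
  obtain ⟨l⟩ := h
  haveI : IsIso e.hom := inferInstance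
  exact ⟨(LinearEquiv.ofBijective (PullbackMod.stalkLin e.hom x) ((PullbackMod.isIso_iff_stalk e.hom).mp inferInstance x)).symm.trans l⟩

theorem freeAt_unique_open {X : Scheme.{u}} {M : X.Modules} (hM : FlatMod.IsFinLocFree M) {U : X.Opens} {a m : ℕ}
    {x : X} (hx : x ∈ U) (h : FlatMod.IsFinLocFreeOfRank a ((Scheme.Modules.restrictFunctor U.ι).obj M))
    (hm : PullbackMod.FreeAt m M x) : m = a := by
  haveI := (PullbackMod.isQCoh_and_isFP_of_isFinLocFree _ hM).1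
  let x' : U.toScheme := ⟨x, hx⟩
  have h1 : PullbackMod.FreeAt m ((Scheme.Modules.restrictFunctor U.ι).obj M) x' :=
    freeAt_iso ((Scheme.Modules.restrictFunctorIsoPullback U.ι).app M).symm
      (PullbackMod.freeAt_pullback M U.ι x' hm)
  have hf : FlatMod.IsFinLocFree ((Scheme.Modules.restrictFunctor U.ι).obj M) := fun y => by
    obtain ⟨O, hyO, e⟩ := h y
    exact ⟨O, a, hyO, e⟩
  haveI := (PullbackMod.isQCoh_and_isFP_of_isFinLocFree _ hf).1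
  obtain ⟨O, hxO, ⟨e⟩⟩ := h x'
  exact PullbackMod.freeAt_unique _ h1 (PullbackMod.freeAt_of_restrict_iso _ e hxO)

theorem exists_freeAt {X : Scheme.{u}} {M : X.Modules} (hM : FlatMod.IsFinLocFree M) (x : X) :
    ∃ n, PullbackMod.FreeAt n M x := by
  haveI := (PullbackMod.isQCoh_and_isFP_of_isFinLocFree _ hM).1
  obtain ⟨U, n, hxU, ⟨e⟩⟩ := hM x
  exact ⟨n, PullbackMod.freeAt_of_restrict_iso _ e hxU⟩

theorem freeAt_add {X : Scheme.{u}} {S : ShortComplex X.Modules} (hS : S.ShortExact) {x : X} {a b c : ℕ}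
    (h₁ : PullbackMod.FreeAt a S.X₁ x) (h₂ : PullbackMod.FreeAt b S.X₂ x) (h₃ : PullbackMod.FreeAt c S.X₃ x) :
    a + c = b := by
  obtain ⟨e₁⟩ := h₁; obtain ⟨e₂⟩ := h₂; obtain ⟨e₃⟩ := h₃
  haveI : Mono S.f := hS.mono_f
  haveI : Epi S.g := hS.epi_g
  exact FundLocIsoLib.rank_add (PullbackMod.stalkLin S.f x) (PullbackMod.stalkLin S.g x)
    ((PullbackMod.mono_iff_stalk S.f).1 inferInstance x) (DCohLib.exact_stalkLin S hS.exact x)
    ((PullbackMod.epi_iff_stalk S.g).1 inferInstance x) e₁ e₂ e₃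

end

end Groth.Agent.FactorSeqLib
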