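import Groth.Agent.KInj.Lifting
import Groth.Agent.KInj.Colim
import Mathlib.Algebra.Homology.HomologicalComplexAbelian

/-!
# Quasi-isomorphisms of two-term complexes
-/

set_option autoImplicit false
set_option backward.isDefEq.respectTransparency false

universe v u

open CategoryTheory CategoryTheory.Limits HomologicalComplex

namespace Groth.Agent.FactorSeqLib

noncomputable section

variable {A : Type u} [Category.{v} A] [Abelian A]

theorem exists_quasiIso_double {A₀ A₁ M₀ M₁ C : A} (φ : A₀ ⟶ A₁) (D : M₀ ⟶ M₁) (a : A₀ ⟶ M₀) (h : A₁ ⟶ M₁)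
    (g : M₀ ⟶ C) (k : M₁ ⟶ C) (comm : φ ≫ h = a ≫ D) (hDk : D ≫ k = g) {w₀ : a ≫ g = 0} {w₁ : h ≫ k = 0}
    (h₀ : (ShortComplex.mk a g w₀).ShortExact) (h₁ : (ShortComplex.mk h k w₁).ShortExact) :
    ∃ F : HomologicalComplex.double φ (show (ComplexShape.up ℤ).Rel (-1 : ℤ) (-1 + 1) from rfl) ⟶
        HomologicalComplex.double D (show (ComplexShape.up ℤ).Rel (-1 : ℤ) (-1 + 1) from rfl),
      QuasiIso F := by
  have hr : (ComplexShape.up ℤ).Rel (-1 : ℤ) (-1 + 1) := rfl
  have hne : (-1 : ℤ) ≠ -1 + 1 := by omega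
  let F : double φ hr ⟶ double D hr := mkHomFromDouble hr hne (a ≫ (doubleXIso₀ D hr).inv)
    (h ≫ (doubleXIso₁ D hr hne).inv) (by rw [double_d D hr hne, reassoc_of% comm]; simp)
    (fun j _ => by rw [double_d_eq_zero₀ D hr _ _ hne.symm, comp_zero])
  let G : double D hr ⟶ double (𝟙 C) hr := mkHomFromDouble hr hne (g ≫ (doubleXIso₀ (𝟙 C) hr).inv)
    (k ≫ (doubleXIso₁ (𝟙 C) hr hne).inv) (by rw [double_d (𝟙 C) hr hne, reassoc_of% hDk]; simp)
    (fun j _ => by rw [double_d_eq_zero₀ (𝟙 C) hr _ _ hne.symm, comp_zero])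
  have w : F ≫ G = 0 := by
    refine from_double_hom_ext ?_ ?_
    · simp [F, G, reassoc_of% w₀]
    · simp [F, G, reassoc_of% w₁]
  have hS : (ShortComplex.mk F G w).ShortExact := by
    refine shortExact_of_degreewise_shortExact _ fun n => ?_
    by_cases hn : n = -1
    · subst hn
      refine ShortComplex.shortExact_of_iso ?_ h₀
      exact ShortComplex.isoMk (doubleXIso₀ φ hr).symm (doubleXIso₀ D hr).symm (doubleXIso₀ (𝟙 C) hr).symm
        (by simp [F]) (by simp [G])
    by_cases hn' : n = -1 + 1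
    · subst hn'
      refine ShortComplex.shortExact_of_iso ?_ h₁
      exact ShortComplex.isoMk (doubleXIso₁ φ hr hne).symm (doubleXIso₁ D hr hne).symm (doubleXIso₁ (𝟙 C) hr hne).symm
        (by simp [F]) (by simp [G])
    · exact
        { exact := ShortComplex.exact_of_isZero_X₂ _ (isZero_double_X D hr n hn hn')
          mono_f := (isZero_double_X φ hr n hn hn').mono _
          epi_g := (isZero_double_X (𝟙 C) hr n hn hn').epi _ }
  exact ⟨F, KInj.quasiIso_f_of_acyclic hS (KInj.acyclic_double_id C (-1))⟩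

end

end Groth.Agent.FactorSeqLib
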